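import Mathlib
import Cfsg.Agent.Lib.Helper49.RUW.Defs
import Cfsg.Agent.Lib.Helper87.PGroupFrattini

/-!
# RUW package [STAGEA]
-/

set_option autoImplicit false

namespace Cfsg.Agent.Lib.Helper88.RUW

open Cfsg.Agent.Lib.Helper49.RUW

universe u

/-- The numerics of stage A. -/
theorem stageA_numeric (j w p1 p2 p3 idx cT : ℕ) (hj : j ≤ 3) (h3 : p3 ≤ 2 ^ (j + 1))
    (c3 : p2 * 2 ^ j ≤ p3 ^ 2) (c2 : p1 * 2 ^ j ≤ p2 ^ 2) (c1 : w * 2 ^ j ≤ p1 ^ 2)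
    (hidx : idx ≤ 8) (hw : w * idx = cT) (hT : 2 ^ 14 ≤ cT) :
    j = 3 ∧ w = 2 ^ 11 ∧ idx = 8 ∧ cT = 2 ^ 14 := by
  have hpos : 0 < 2 ^ j := by positivity
  have a2 : p2 ≤ 2 ^ (j + 2) := by
    have e3 : p3 ^ 2 ≤ (2 ^ (j + 1)) ^ 2 := Nat.pow_le_pow_left h3 2
    have h : (2 ^ (j + 1)) ^ 2 = 2 ^ (j + 2) * 2 ^ j := by ring
    exact Nat.le_of_mul_le_mul_right (by rw [← h]; exact c3.trans e3) hpos
  have a1 : p1 ≤ 2 ^ (j + 4) := by
    have e2 : p2 ^ 2 ≤ (2 ^ (j + 2)) ^ 2 := Nat.pow_le_pow_left a2 2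
    have h : (2 ^ (j + 2)) ^ 2 = 2 ^ (j + 4) * 2 ^ j := by ring
    exact Nat.le_of_mul_le_mul_right (by rw [← h]; exact c2.trans e2) hpos
  have a0 : w ≤ 2 ^ (j + 8) := by
    have e1 : p1 ^ 2 ≤ (2 ^ (j + 4)) ^ 2 := Nat.pow_le_pow_left a1 2
    have h : (2 ^ (j + 4)) ^ 2 = 2 ^ (j + 8) * 2 ^ j := by ring
    exact Nat.le_of_mul_le_mul_right (by rw [← h]; exact c1.trans e1) hpos
  have hwi : w * idx ≤ w * 8 := Nat.mul_le_mul_left w hidx
  clear a1 a2 c1 c2 c3 h3 hpos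
  interval_cases j
  · norm_num at a0 hT ⊢; omega
  · norm_num at a0 hT ⊢; omega
  · norm_num at a0 hT ⊢; omega
  · norm_num at a0 hT ⊢
    have hw' : w = 2048 := by omega
    subst hw'
    omega

theorem pkgStageA (hUcs : PkgUcs.{u}) (hNormZ : PkgNormZ.{u}) (hTower : PkgTower.{u})
    (hChain : PkgChain.{u}) : PkgStageA.{u} := by
  intro T _ _ hT hcard h4 W hW hfr
  have : Fact (Nat.Prime 2) := ⟨Nat.prime_two⟩
  obtain ⟨c1, c2, c3⟩ := hUcs hT h4 (lt_of_lt_of_le (by norm_num) hcard)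
  obtain ⟨X₁, g₁, g₂, g₃, hS, -, -, hidx⟩ := hTower hT c1 c2 c3
  rw [← hW] at hS hidx
  have hWn : W.Normal := hS.Wn
  have hWp : IsPGroup 2 ↥W := hT.to_subgroup W
  set Φ : Subgroup T := (frattini ↥W).map W.subtype with hΦ
  have hΦn : Φ.Normal := ConjAct.normal_of_characteristic_of_normal
  have hΦcard : Nat.card Φ = Nat.card (frattini ↥W) :=
    Subgroup.card_map_of_injective W.subtype_injective
  obtain ⟨j, hj⟩ := (hT.to_subgroup Φ).exists_card_eq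
  have hj3 : j ≤ 3 := by
    have h : 2 ^ j ≤ 2 ^ 3 := by rw [← hj, hΦcard]; exact hfr
    exact (Nat.pow_le_pow_iff_right (by norm_num)).1 h
  have hΦZ : Φ ≤ Subgroup.upperCentralSeries T j := hNormZ hT Φ hΦn j (by rw [hj])
  have hZj : Nat.card (Subgroup.upperCentralSeries T j) = 2 ^ j := by
    interval_cases j
    · simp
    · exact c1
    · exact c2
    · exact c3
  have hZj1 : Nat.card (Subgroup.upperCentralSeries T (j + 1)) = 2 ^ (j + 1) := by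
    interval_cases j
    · exact c1
    · exact c2
    · exact c3
    · exact h4
  have hΦeq : Φ = Subgroup.upperCentralSeries T j :=
    Subgroup.eq_of_le_of_card_ge hΦZ (by rw [hZj, hj])
  have hΦW : Φ ≤ W := by rw [hΦ]; exact Subgroup.map_subtype_le _
  have hsq : ∀ p ∈ W, p * p ∈ Φ := by
    intro p hp
    have h := Cfsg.Agent.Lib.Helper87.pow_p_mem_frattini hWp (⟨p, hp⟩ : ↥W)
    rw [pow_two] at h
    exact ⟨_, h, rfl⟩
  have hcomm : ∀ p ∈ W, ∀ q ∈ W, p * q * p⁻¹ * q⁻¹ ∈ Φ := by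
    intro p hp q hq
    have h := Cfsg.Agent.Lib.Helper87.comm_mem_frattini hWp (⟨p, hp⟩ : ↥W) ⟨q, hq⟩
    exact ⟨_, h, rfl⟩
  obtain ⟨P₁, P₂, P₃, hC⟩ := hChain W X₁ _ Φ g₁ g₂ g₃ hS hΦn hΦW hsq hcomm
  have hP3 : P₃ ≤ Subgroup.upperCentralSeries T (j + 1) := by
    intro p hp
    rw [Subgroup.mem_upperCentralSeries_succ_iff]
    intro y
    have h1 : cg y p ∈ Φ := hC.fixT p hp y
    rw [hΦeq] at h1
    have hn : (Subgroup.upperCentralSeries T j).Normal := inferInstance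
    have h2 := hn.conj_mem _ (inv_mem h1) p
    have h3 : p * (cg y p)⁻¹ * p⁻¹ = p * y * p⁻¹ * y⁻¹ := by unfold cg; group
    rw [h3] at h2
    exact h2
  have hP3c : Nat.card P₃ ≤ 2 ^ (j + 1) := by
    rw [← hZj1]; exact Subgroup.card_le_of_le hP3
  have hmul : Nat.card W * W.index = Nat.card T := Subgroup.card_mul_index W
  have hc3 := hC.c3
  have hc2 := hC.c2
  have hc1 := hC.c1
  rw [hj] at hc1 hc2 hc3
  obtain ⟨rfl, hw, hi, hcT⟩ := stageA_numeric j (Nat.card W) (Nat.card P₁) (Nat.card P₂)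
    (Nat.card P₃) W.index (Nat.card T) hj3 hP3c hc3 hc2 hc1 hidx hmul hcard
  exact { cardT := hcT, cardW := hw, Wn := hWn, idx := hi, c1 := c1, c2 := c2, c3 := c3,
          c4 := h4, frat := hΦeq }

example (hUcs : PkgUcs.{u}) (hNormZ : PkgNormZ.{u}) (hTower : PkgTower.{u})
    (hChain : PkgChain.{u}) : PkgStageA.{u} := pkgStageA hUcs hNormZ hTower hChain

end Cfsg.Agent.Lib.Helper88.RUW
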