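import Mathlib
import Cfsg.Agent.Lib.Helper49.RUW.Defs
import Cfsg.Agent.Lib.Helper87.PGroupFrattini
import Cfsg.Agent.Lib.Helper1.BurnsideBasis

/-!
# RUW package [STAGEB]
-/

set_option autoImplicit false

namespace Cfsg.Agent.Lib.Helper88.RUW

open Cfsg.Agent.Lib.Helper49.RUW

universe u

/-- In a group whose commutators `⁅a,b⁆` are all central and whose squares commute with everything
relevant (`a * a` central), every element of the commutator subgroup squares to `1`. -/
theorem sq_eq_one_of_mem_commutator {W : Type u} [Group W]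
    (hc : ∀ a b : W, a * b * a⁻¹ * b⁻¹ ∈ Subgroup.center W)
    (hs : ∀ a : W, a * a ∈ Subgroup.center W) :
    ∀ z ∈ commutator W, z ^ 2 = 1 := by
  -- the subgroup of central elements of square one
  let E : Subgroup W :=
    { carrier := {z | z ∈ Subgroup.center W ∧ z ^ 2 = 1}
      one_mem' := ⟨one_mem _, by simp⟩
      mul_mem' := by
        rintro a b ⟨ha, ha2⟩ ⟨hb, hb2⟩
        refine ⟨mul_mem ha hb, ?_⟩
        have hcomm : Commute a b := (Subgroup.mem_center_iff.1 ha b).symm
        rw [hcomm.mul_pow, ha2, hb2, one_mul]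
      inv_mem' := by
        rintro a ⟨ha, ha2⟩
        exact ⟨inv_mem ha, by rw [inv_pow, ha2, inv_one]⟩ }
  have hE : commutator W ≤ E := by
    rw [commutator_eq_closure, Subgroup.closure_le]
    rintro _ ⟨a, b, rfl⟩
    have hcen : a * b * a⁻¹ * b⁻¹ ∈ Subgroup.center W := hc a b
    refine ⟨by simpa [commutatorElement_def] using hcen, ?_⟩
    rw [commutatorElement_def]
    set c := a * b * a⁻¹ * b⁻¹ with hcdef
    -- c ^ 2 = ⁅a*a, b⁆ = 1
    have h1 : ∀ w : W, w * c = c * w := fun w => Subgroup.mem_center_iff.1 hcen w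
    have h2 : ∀ w : W, w * (a * a) = (a * a) * w := fun w => Subgroup.mem_center_iff.1 (hs a) w
    have h3 : (a * a) * b * (a * a)⁻¹ * b⁻¹ = c ^ 2 := by
      have : (a * a) * b * (a * a)⁻¹ * b⁻¹ = a * c * b * a⁻¹ * b⁻¹ := by
        rw [hcdef]; group
      rw [this, h1 a, pow_two, hcdef]; group
    have h4 : (a * a) * b * (a * a)⁻¹ * b⁻¹ = 1 := by
      rw [← h2 b]; group
    rw [← h3, h4]
  intro z hz
  exact (hE hz).2

theorem pkgStageB (hElem : PkgElem.{u}) : PkgStageB.{u} := by
  intro T _ _ hT W hW hA hd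
  have hfrat := hA.frat
  have hWp : IsPGroup 2 ↥W := hT.to_subgroup W
  have : Fact (Nat.Prime 2) := ⟨Nat.prime_two⟩
  have hle1 : frattini ↥W ≤ commutator ↥W := hElem hWp hd
  have hle2 : commutator ↥W ≤ frattini ↥W :=
    Cfsg.Agent.Lib.Helper1.commutator_le_frattini_of_pGroup 2 hWp
  have heq : commutator ↥W = frattini ↥W := le_antisymm hle2 hle1
  have hcomm : (commutator ↥W).map W.subtype = Subgroup.upperCentralSeries T 3 := by
    rw [heq, hfrat]
  -- elements of frattini W are central in W
  have hcen : ∀ w : ↥W, w ∈ frattini ↥W → w ∈ Subgroup.center ↥W := by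
    intro w hw
    have h1 : (w : T) ∈ Subgroup.upperCentralSeries T 3 := by
      rw [← hfrat]; exact Subgroup.mem_map_of_mem W.subtype hw
    rw [Subgroup.mem_center_iff]
    intro v
    have hv : (v : T) ∈ Subgroup.centralizer ((Subgroup.upperCentralSeries T 3 : Subgroup T) : Set T) := by
      rw [← hW]; exact v.2
    rw [Subgroup.mem_centralizer_iff] at hv
    have := hv (w : T) h1
    exact Subtype.ext (by simpa using this.symm)
  have hsq : ∀ z ∈ commutator ↥W, z ^ 2 = 1 := by
    apply sq_eq_one_of_mem_commutator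
    · intro a b
      exact hcen _ (Cfsg.Agent.Lib.Helper87.comm_mem_frattini hWp a b)
    · intro a
      have := Cfsg.Agent.Lib.Helper87.pow_p_mem_frattini hWp a
      rw [pow_two] at this
      exact hcen _ this
  refine { comm := hcomm, exp := ?_, cardQ := ?_, expQ := ?_ }
  · intro z hz
    rw [← hcomm] at hz
    obtain ⟨w, hw, rfl⟩ := hz
    have := hsq w hw
    have h2 : ((w ^ 2 : ↥W) : T) = 1 := by rw [this]; rfl
    simpa using h2
  · have h1 : Nat.card ↥W = Nat.card (↥W ⧸ commutator ↥W) * Nat.card ↥(commutator ↥W) :=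
      Subgroup.card_eq_card_quotient_mul_card_subgroup (commutator ↥W)
    have h2 : Nat.card ↥(commutator ↥W) = 8 := by
      have h3 : Nat.card ↥((commutator ↥W).map W.subtype) = Nat.card ↥(commutator ↥W) :=
        Subgroup.card_map_of_injective W.subtype_injective
      rw [← h3, hcomm, hA.c3]
    rw [hA.cardW, h2] at h1
    omega
  · intro x
    induction x using QuotientGroup.induction_on with
    | H w =>
      rw [← QuotientGroup.mk_pow, QuotientGroup.eq_one_iff, heq]
      exact Cfsg.Agent.Lib.Helper87.pow_p_mem_frattini hWp w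

example (hElem : PkgElem.{u}) : PkgStageB.{u} := pkgStageB hElem

end Cfsg.Agent.Lib.Helper88.RUW
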