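import Mathlib
import Cfsg.Agent.Lib.Helper49.RUW.Defs
import Cfsg.Agent.Lib.Helper87.PGroupFrattini

/-!
# RUW package [ZFACTS]
-/

set_option autoImplicit false

namespace Cfsg.Agent.Lib.Helper88.RUW

open Cfsg.Agent.Lib.Helper49.RUW

universe u

theorem pkgZFacts : PkgZFacts.{u} := by
  intro T _ _ hT W hW hA hB
  have hfrat := hA.frat
  have hZ3W : Subgroup.upperCentralSeries T 3 ≤ W := by
    rw [← hfrat]; exact Subgroup.map_subtype_le _
  have hWp : IsPGroup 2 ↥W := hT.to_subgroup W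
  have : Fact (Nat.Prime 2) := ⟨Nat.prime_two⟩
  refine
    { Z3n := inferInstance
      Z2n := inferInstance
      Z23 := Subgroup.upperCentralSeries_mono T (by norm_num)
      Z3W := hZ3W
      card3 := hA.c3
      card2 := hA.c2
      exp := ?_
      cenW := ?_
      cenA := ?_
      notW := ?_
      act := ?_
      sqW := ?_
      commW := ?_
      cardW := hA.cardW }
  · intro z hz
    have := hB.exp z hz
    rwa [pow_two] at this
  · intro w hw z hz
    rw [hW, Subgroup.mem_centralizer_iff] at hw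
    exact (hw z hz).symm
  · intro a ha z hz
    rw [Subgroup.mem_centralizer_iff] at ha
    exact (ha z hz).symm
  · intro t ht
    by_contra! hcon
    apply ht
    rw [hW, Subgroup.mem_centralizer_iff]
    intro z hz
    exact (hcon z hz).symm
  · intro t z hz
    have hz' : z⁻¹ ∈ Subgroup.upperCentralSeries T (2 + 1) := inv_mem hz
    rw [Subgroup.mem_upperCentralSeries_succ_iff] at hz'
    have h3 := hz' t
    have h4 : cg t z = z⁻¹ * t * z⁻¹⁻¹ * t⁻¹ := by
      unfold cg; group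
    rw [h4]
    simpa [commutatorElement_def] using h3
  · intro p hp
    have h1 : (⟨p, hp⟩ : ↥W) ^ 2 ∈ frattini ↥W :=
      Cfsg.Agent.Lib.Helper87.pow_p_mem_frattini hWp ⟨p, hp⟩
    have h2 : ((⟨p, hp⟩ : ↥W) ^ 2 : T) ∈ (frattini ↥W).map W.subtype :=
      Subgroup.mem_map_of_mem W.subtype h1
    rw [hfrat] at h2
    simpa [pow_two] using h2
  · intro p hp q hq
    have h1 : (⟨p, hp⟩ : ↥W) * ⟨q, hq⟩ * (⟨p, hp⟩ : ↥W)⁻¹ * (⟨q, hq⟩ : ↥W)⁻¹ ∈ frattini ↥W :=
      Cfsg.Agent.Lib.Helper87.comm_mem_frattini hWp ⟨p, hp⟩ ⟨q, hq⟩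
    have h2 := Subgroup.mem_map_of_mem W.subtype h1
    rw [hfrat] at h2
    simpa using h2

example : PkgZFacts.{u} := pkgZFacts

end Cfsg.Agent.Lib.Helper88.RUW
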